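import Cfsg.Agent.Helper28.S5700.Defs

set_option autoImplicit false
set_option linter.unusedSectionVars false
set_option linter.unusedVariables false

/-! # S5700: basic library (the `K`-structure in terms of `J`, `hperp`, `InK`, `RR`) -/

namespace Cfsg.Agent.S5700P

open Matrix Cfsg.Agent.Helper28.Sg Cfsg.Agent.Helper28.Spin Cfsg.Agent.Helper12.OrthGen

variable {F : Type*} [Field F] {ι : Type} [Fintype ι] [DecidableEq ι]
  {Q : QuadraticForm F (ι → F)} {J : Matrix ι ι F} {t p : F}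

/-! ### bilinearity helpers -/

theorem B_add_left (x y z : ι → F) : B Q (x + y) z = B Q x z + B Q y z :=
  QuadraticMap.polar_add_left _ _ _ _

theorem B_add_right (x y z : ι → F) : B Q x (y + z) = B Q x y + B Q x z :=
  QuadraticMap.polar_add_right _ _ _ _

theorem B_smul_left (c : F) (x y : ι → F) : B Q (c • x) y = c * B Q x y := by
  show QuadraticMap.polar ⇑Q (c • x) y = _
  rw [QuadraticMap.polar_smul_left]; rfl

theorem B_smul_right (c : F) (x y : ι → F) : B Q x (c • y) = c * B Q x y := by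
  show QuadraticMap.polar ⇑Q x (c • y) = _
  rw [QuadraticMap.polar_smul_right]; rfl

theorem B_sub_left (x y z : ι → F) : B Q (x - y) z = B Q x z - B Q y z :=
  QuadraticMap.polar_sub_left _ _ _ _

theorem B_sub_right (x y z : ι → F) : B Q x (y - z) = B Q x y - B Q x z :=
  QuadraticMap.polar_sub_right _ _ _ _

theorem B_neg_left (x y : ι → F) : B Q (-x) y = - B Q x y := QuadraticMap.polar_neg_left _ _ _

theorem B_zero_left (y : ι → F) : B Q 0 y = 0 := QuadraticMap.polar_zero_left _ _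

theorem B_zero_right (x : ι → F) : B Q x 0 = 0 := QuadraticMap.polar_zero_right _ _

/-! ### the `K`-structure -/

namespace UData

variable (U : UData Q J t p)
include U

theorem JJ (x : ι → F) : J *ᵥ (J *ᵥ x) = p • x + t • J *ᵥ x := by
  rw [Matrix.mulVec_mulVec, U.sq, Matrix.add_mulVec, Matrix.smul_mulVec, Matrix.smul_mulVec,
    Matrix.one_mulVec]

/-- `B (x, J y) = t B(x, y) - B(J x, y)` -/
theorem B_J_right (x y : ι → F) : B Q x (J *ᵥ y) = t * B Q x y - B Q (J *ᵥ x) y := by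
  rw [U.adj x y]; ring

/-- `B(Jx, Jy) = -p B(x, y)` -/
theorem B_JJ (x y : ι → F) : B Q (J *ᵥ x) (J *ᵥ y) = -p * B Q x y := by
  rw [U.adj x (J *ᵥ y), U.JJ y, B_add_right, B_smul_right, B_smul_right]
  ring

theorem Q_J (x : ι → F) : Q (J *ᵥ x) = -p * Q x := by
  have := U.norm 0 1 x
  rw [zero_smul, zero_add, one_smul] at this
  rw [this]; ring

/-- `B(x, Jx) = t Q(x)` -/
theorem B_self_J (x : ι → F) : B Q x (J *ᵥ x) = t * Q x := by
  have h1 := U.norm 1 1 x
  rw [one_smul, one_smul, Q_add, U.Q_J] at h1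
  linear_combination h1

theorem B_J_self (x : ι → F) : B Q (J *ᵥ x) x = t * Q x := by
  rw [B_comm, U.B_self_J]

theorem p_ne_zero : p ≠ 0 := by
  intro h
  apply U.irred 0
  rw [h]; ring

/-- the norm form is anisotropic -/
theorem norm_ne_zero {a b : F} (h : ¬ (a = 0 ∧ b = 0)) : a * a + t * a * b - p * b * b ≠ 0 := by
  intro h0
  by_cases hb : b = 0
  · subst hb
    apply h
    refine ⟨?_, rfl⟩
    have : a * a = 0 := by linear_combination h0
    exact mul_self_eq_zero.mp this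
  · apply U.irred (-a / b)
    field_simp
    linear_combination h0

/-- `(a + bJ)(a + bt - bJ) = N(a + bJ)` -/
theorem conj_mul (a b : F) (x : ι → F) :
    (a + b * t) • (a • x + b • J *ᵥ x) - b • J *ᵥ (a • x + b • J *ᵥ x) =
      (a * a + t * a * b - p * b * b) • x := by
  rw [Matrix.mulVec_add, Matrix.mulVec_smul, Matrix.mulVec_smul, U.JJ]
  module

/-- `K` acts without zero divisors -/
theorem eq_zero_of_comb {a b : F} {x : ι → F} (h : a • x + b • J *ᵥ x = 0)
    (hab : ¬ (a = 0 ∧ b = 0)) : x = 0 := by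
  have h1 := U.conj_mul a b x
  rw [h, smul_zero, Matrix.mulVec_zero, smul_zero, sub_zero] at h1
  have h2 := U.norm_ne_zero hab
  have := congrArg (fun y => (a * a + t * a * b - p * b * b)⁻¹ • y) h1
  simp only [smul_zero, smul_smul, inv_mul_cancel₀ h2, one_smul] at this
  exact this.symm

/-- `x, Jx` are linearly independent for `x ≠ 0` -/
theorem comb_eq_zero {a b : F} {x : ι → F} (hx : x ≠ 0) (h : a • x + b • J *ᵥ x = 0) :
    a = 0 ∧ b = 0 := by
  by_contra hab
  exact hx (U.eq_zero_of_comb h hab)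

/-- the `K`-line of a singular vector is totally singular -/
theorem Q_comb {x : ι → F} (hx : Q x = 0) (a b : F) : Q (a • x + b • J *ᵥ x) = 0 := by
  rw [U.norm, hx, mul_zero]

theorem B_comb_self {x : ι → F} (hx : Q x = 0) (a b c d : F) :
    B Q (a • x + b • J *ᵥ x) (c • x + d • J *ᵥ x) = 0 := by
  simp only [B_add_left, B_add_right, B_smul_left, B_smul_right, U.B_JJ, U.B_self_J, U.B_J_self,
    B_self_of_singular Q hx, hx]
  ring

theorem J_comb (a b : F) (x : ι → F) :
    J *ᵥ (a • x + b • J *ᵥ x) = (p * b) • x + (a + t * b) • J *ᵥ x := by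
  rw [Matrix.mulVec_add, Matrix.mulVec_smul, Matrix.mulVec_smul, U.JJ]
  module

end UData

/-! ### `InK` -/

theorem InK.refl (J : Matrix ι ι F) (x : ι → F) : InK J x x := ⟨1, 0, by simp⟩

theorem InK.J_self (J : Matrix ι ι F) (x : ι → F) : InK J x (J *ᵥ x) := ⟨0, 1, by simp⟩

theorem InK.zero (J : Matrix ι ι F) (x : ι → F) : InK J x 0 := ⟨0, 0, by simp⟩

theorem InK.add {x y z : ι → F} (hy : InK J x y) (hz : InK J x z) : InK J x (y + z) := by
  obtain ⟨a, b, rfl⟩ := hy
  obtain ⟨c, d, rfl⟩ := hz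
  exact ⟨a + c, b + d, by module⟩

theorem InK.smul {x y : ι → F} (hy : InK J x y) (c : F) : InK J x (c • y) := by
  obtain ⟨a, b, rfl⟩ := hy
  exact ⟨c * a, c * b, by module⟩

theorem InK.neg {x y : ι → F} (hy : InK J x y) : InK J x (-y) := by
  have := hy.smul (-1)
  rwa [neg_one_smul] at this

theorem InK.sub {x y z : ι → F} (hy : InK J x y) (hz : InK J x z) : InK J x (y - z) := by
  rw [sub_eq_add_neg]; exact hy.add hz.neg

theorem InK.mulJ (U : UData Q J t p) {x y : ι → F} (hy : InK J x y) : InK J x (J *ᵥ y) := by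
  obtain ⟨a, b, rfl⟩ := hy
  exact ⟨p * b, a + t * b, U.J_comb a b x⟩

theorem InK.trans (U : UData Q J t p) {x y z : ι → F} (hy : InK J x y) (hz : InK J y z) :
    InK J x z := by
  obtain ⟨c, d, rfl⟩ := hz
  exact (hy.smul c).add ((hy.mulJ U).smul d)

/-- `K`-lines: `y ∈ K x`, `y ≠ 0` implies `x ∈ K y` -/
theorem InK.symm (U : UData Q J t p) {x y : ι → F} (hy : InK J x y) (hy0 : y ≠ 0) : InK J y x := by
  obtain ⟨a, b, rfl⟩ := hy
  have hab : ¬ (a = 0 ∧ b = 0) := by
    rintro ⟨rfl, rfl⟩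
    apply hy0
    simp
  have h1 := U.conj_mul a b x
  have h2 := U.norm_ne_zero hab
  set y := a • x + b • J *ᵥ x with hy
  refine ⟨(a * a + t * a * b - p * b * b)⁻¹ * (a + b * t),
    -((a * a + t * a * b - p * b * b)⁻¹ * b), ?_⟩
  have : x = (a * a + t * a * b - p * b * b)⁻¹ • ((a + b * t) • y - b • J *ᵥ y) := by
    rw [h1, smul_smul, inv_mul_cancel₀ h2, one_smul]
  conv_lhs => rw [this]
  module

theorem InK.Q_eq_zero (U : UData Q J t p) {x y : ι → F} (hx : Q x = 0) (hy : InK J x y) :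
    Q y = 0 := by
  obtain ⟨a, b, rfl⟩ := hy
  exact U.Q_comb hx a b

theorem InK.of_eq_zero {x y : ι → F} (hx : x = 0) (hy : InK J x y) : y = 0 := by
  obtain ⟨a, b, rfl⟩ := hy
  subst hx
  simp

/-! ### `hperp` -/

theorem hperp.symm (U : UData Q J t p) {x y : ι → F} (h : hperp Q J x y) : hperp Q J y x := by
  refine ⟨by rw [B_comm]; exact h.1, ?_⟩
  rw [B_comm, U.B_J_right, h.1, h.2]; ring

theorem hperp.B_J_right (U : UData Q J t p) {x y : ι → F} (h : hperp Q J x y) :
    B Q x (J *ᵥ y) = 0 := by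
  rw [U.B_J_right, h.1, h.2]; ring

theorem hperp.B_JJ (U : UData Q J t p) {x y : ι → F} (h : hperp Q J x y) :
    B Q (J *ᵥ x) (J *ᵥ y) = 0 := by
  rw [U.B_JJ, h.1]; ring

theorem hperp.add_left {x y z : ι → F} (hx : hperp Q J x z) (hy : hperp Q J y z) :
    hperp Q J (x + y) z := by
  refine ⟨by rw [B_add_left, hx.1, hy.1, add_zero], ?_⟩
  rw [Matrix.mulVec_add, B_add_left, hx.2, hy.2, add_zero]

theorem hperp.smul_left {x z : ι → F} (hx : hperp Q J x z) (c : F) : hperp Q J (c • x) z := by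
  refine ⟨by rw [B_smul_left, hx.1, mul_zero], ?_⟩
  rw [Matrix.mulVec_smul, B_smul_left, hx.2, mul_zero]

theorem hperp.neg_left {x z : ι → F} (hx : hperp Q J x z) : hperp Q J (-x) z := by
  have := hx.smul_left (-1)
  rwa [neg_one_smul] at this

theorem hperp.sub_left {x y z : ι → F} (hx : hperp Q J x z) (hy : hperp Q J y z) :
    hperp Q J (x - y) z := by
  rw [sub_eq_add_neg]; exact hx.add_left hy.neg_left

theorem hperp.J_left (U : UData Q J t p) {x z : ι → F} (hx : hperp Q J x z) :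
    hperp Q J (J *ᵥ x) z := by
  refine ⟨hx.2, ?_⟩
  rw [U.JJ, B_add_left, B_smul_left, B_smul_left, hx.1, hx.2]; ring

theorem hperp.zero_left (z : ι → F) : hperp Q J 0 z := by
  refine ⟨B_zero_left z, ?_⟩
  rw [Matrix.mulVec_zero]; exact B_zero_left z

theorem hperp.add_right (U : UData Q J t p) {x y z : ι → F} (hy : hperp Q J x y)
    (hz : hperp Q J x z) : hperp Q J x (y + z) :=
  ((hy.symm U).add_left (hz.symm U)).symm U

theorem hperp.smul_right (U : UData Q J t p) {x y : ι → F} (hy : hperp Q J x y) (c : F) :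
    hperp Q J x (c • y) :=
  ((hy.symm U).smul_left c).symm U

theorem hperp.sub_right (U : UData Q J t p) {x y z : ι → F} (hy : hperp Q J x y)
    (hz : hperp Q J x z) : hperp Q J x (y - z) :=
  ((hy.symm U).sub_left (hz.symm U)).symm U

theorem hperp.J_right (U : UData Q J t p) {x y : ι → F} (hy : hperp Q J x y) :
    hperp Q J x (J *ᵥ y) :=
  ((hy.symm U).J_left U).symm U

theorem hperp.zero_right (U : UData Q J t p) (x : ι → F) : hperp Q J x 0 :=
  (hperp.zero_left x).symm U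

/-- a singular vector is `h`-orthogonal to itself -/
theorem hperp.self (U : UData Q J t p) {x : ι → F} (hx : Q x = 0) : hperp Q J x x :=
  ⟨B_self_of_singular Q hx, by rw [U.B_J_self, hx, mul_zero]⟩

theorem hperp.of_InK_right (U : UData Q J t p) {x y z : ι → F} (h : hperp Q J x y)
    (hz : InK J y z) : hperp Q J x z := by
  obtain ⟨a, b, rfl⟩ := hz
  exact (h.smul_right U a).add_right U ((h.J_right U).smul_right U b)

theorem hperp.of_InK_left (U : UData Q J t p) {x y z : ι → F} (h : hperp Q J x y)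
    (hz : InK J x z) : hperp Q J z y :=
  ((h.symm U).of_InK_right U hz).symm U

/-- `Q` is additive on `h`-orthogonal vectors -/
theorem hperp.Q_add {x y : ι → F} (h : hperp Q J x y) : Q (x + y) = Q x + Q y := by
  rw [Cfsg.Agent.Helper28.Sg.Q_add, h.1, add_zero]

/-- if `y ⊥ x` and `x ∈ K y`, `y` singular... : a vector of `K y` which is not `h`-orthogonal to `z`
shows `y` is not `h`-orthogonal to `z` -/
theorem not_hperp_of_InK (U : UData Q J t p) {y z w : ι → F} (hw : InK J y w)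
    (h : ¬ hperp Q J w z) : ¬ hperp Q J y z :=
  fun hyz => h (hyz.of_InK_left U hw)


/-! ### independence of two `K`-lines, and singular decompositions -/

/-- `x, Jx, y, Jy` are linearly independent when `y ∉ K x`, `x ≠ 0` -/
theorem UData.comb4_eq_zero (U : UData Q J t p) {x y : ι → F} (hx : x ≠ 0) (hy : ¬ InK J x y)
    {a b c d : F} (h : a • x + b • J *ᵥ x + (c • y + d • J *ᵥ y) = 0) :
    a = 0 ∧ b = 0 ∧ c = 0 ∧ d = 0 := by
  have hcd : c = 0 ∧ d = 0 := by
    by_contra hcd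
    apply hy
    -- `w = c y + d Jy = -(a x + b Jx) ∈ K x`, and `y ∈ K w`
    set w := c • y + d • J *ᵥ y with hw
    have hw0 : w ≠ 0 := by
      intro h0
      have hy0 := U.eq_zero_of_comb h0 hcd
      apply hy
      rw [hy0]; exact InK.zero J x
    have h1 : InK J x w := by
      refine ⟨-a, -b, ?_⟩
      have : w = -(a • x + b • J *ᵥ x) := by
        rw [eq_neg_iff_add_eq_zero, add_comm]; exact h
      rw [this]; module
    have h2 : InK J y w := ⟨c, d, rfl⟩
    exact h1.trans U (h2.symm U hw0)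
  obtain ⟨rfl, rfl⟩ := hcd
  rw [zero_smul, zero_smul, add_zero, add_zero] at h
  obtain ⟨ha, hb⟩ := U.comb_eq_zero hx h
  exact ⟨ha, hb, rfl, rfl⟩

/-- adjusting a vector by a hyperbolic pair to make it singular -/
theorem exists_singular_add {w₁ w₂ : ι → F} (h1 : Q w₁ = 0) (h2 : Q w₂ = 0)
    (h12 : B Q w₁ w₂ = 1) (x : ι → F) : ∃ c₁ c₂ : F, Q (x + c₁ • w₁ + c₂ • w₂) = 0 := by
  have h21 : B Q w₂ w₁ = 1 := by rw [B_comm]; exact h12
  refine ⟨1 - B Q x w₂, -(B Q x w₁) - Q x + B Q x w₁ * B Q x w₂, ?_⟩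
  rw [Cfsg.Agent.Helper28.Sg.Q_add, Cfsg.Agent.Helper28.Sg.Q_add, Q_smul, Q_smul, h1, h2]
  simp only [B_add_left, B_smul_left, B_smul_right, h12]
  ring

/-! ### `RR` -/

variable {M : Subgroup ↥(Cfsg.isometryGroup F ⇑Q)}

theorem mem_RR {b : ι → F} {hb : Q b = 0} {a : ι → F} :
    a ∈ RR M b hb ↔ ∀ c : F, c • a ∈ Rad M b hb := Iff.rfl

theorem RR_le_Rad {b : ι → F} {hb : Q b = 0} {a : ι → F} (ha : a ∈ RR M b hb) :
    a ∈ Rad M b hb := by
  have := ha 1
  rwa [one_smul] at this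

theorem RR_perp {b : ι → F} {hb : Q b = 0} {a : ι → F} (ha : a ∈ RR M b hb) : B Q b a = 0 :=
  Rad_perp (RR_le_Rad ha)

theorem mem_RR_of_eq {b b' : ι → F} {hb : Q b = 0} (hb' : Q b' = 0) {a a' : ι → F}
    (ha : a ∈ RR M b hb) (h1 : b = b') (h2 : a = a') : a' ∈ RR M b' hb' := by
  subst h1; subst h2; exact ha

theorem self_mem_RR {b : ι → F} (hb : Q b = 0) : b ∈ RR M b hb := fun c =>
  smul_self_mem_Rad hb c

/-- the Siegel transformation attached to an element of `RR` -/
theorem siegO_mem_of_RR {b : ι → F} {hb : Q b = 0} {a : ι → F} (ha : a ∈ RR M b hb) :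
    siegO Q b a hb (RR_perp ha) ∈ M := (RR_le_Rad ha).2

/-- conjugation by an element of `M` -/
theorem RR_conj {g : ↥(Cfsg.isometryGroup F ⇑Q)} (hg : g ∈ M) {b : ι → F} {hb : Q b = 0}
    {a : ι → F} (ha : a ∈ RR M b hb) (hb' : Q (mt Q g *ᵥ b) = 0) :
    mt Q g *ᵥ a ∈ RR M (mt Q g *ᵥ b) hb' := by
  intro c
  rw [← Matrix.mulVec_smul]
  exact Rad_conj hg (ha c) hb'

theorem RR_conj' {g : ↥(Cfsg.isometryGroup F ⇑Q)} (hg : g ∈ M) {b : ι → F} {hb : Q b = 0}
    {a : ι → F} (ha : a ∈ RR M b hb) {b' a' : ι → F} (hb' : Q b' = 0)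
    (h1 : mt Q g *ᵥ b = b') (h2 : mt Q g *ᵥ a = a') : a' ∈ RR M b' hb' := by
  subst h1; subst h2
  exact RR_conj hg ha _

/-- swapping two singular orthogonal vectors -/
theorem RR_swap {b a : ι → F} {hb : Q b = 0} (ha : Q a = 0) (h : a ∈ RR M b hb) :
    b ∈ RR M a ha := by
  intro c
  -- `c • a ∈ Rad b`, so `b ∈ Rad (c • a)`, so `c • b ∈ Rad a`
  have hca : Q (c • a) = 0 := by rw [Q_smul, ha, mul_zero]
  have h1 : b ∈ Rad M (c • a) hca := Rad_swap hca (h c)
  exact Rad_smul_left ha c hca h1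

/-- the commutator relation `COMM2` for `RR` -/
theorem RR_comm2 {v w b a : ι → F} (hv : Q v = 0) (hw : Q w = 0) (hb : Q b = 0)
    (hvw : B Q v w = 0) (hbv : B Q b v = 0) (hbw : B Q b w = 0)
    (hw' : w ∈ RR M v hv) (ha : a ∈ RR M b hb) :
    B Q w a • v - B Q v a • w ∈ RR M b hb := by
  intro c
  have := Cfsg.Agent.S5683P.COMM2.mem_rad M hv hw hb hvw hbv hbw (RR_le_Rad hw') (ha c)
  rw [B_smul_right, B_smul_right] at this
  have e : c • (B Q w a • v - B Q v a • w) = (c * B Q w a) • v - (c * B Q v a) • w := by module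
  rw [e]; exact this

/-- elements of `K b` are in `RR M b` -/
theorem RR_of_InK (hM : KPt J M) {b : ι → F} (hb : Q b = 0) {a : ι → F} (ha : InK J b a) :
    a ∈ RR M b hb := by
  obtain ⟨x, y, rfl⟩ := ha
  exact (RR M b hb).add_mem ((RR M b hb).smul_mem x (self_mem_RR hb))
    ((RR M b hb).smul_mem y (hM b hb))

/-- invariance under the unitary transvections with centre `v ⊥ b` -/
theorem RR_tau (U : UData Q J t p) (hM : KPt J M) {b : ι → F} {hb : Q b = 0} {a : ι → F}
    (ha : a ∈ RR M b hb) {v : ι → F} (hv : Q v = 0) (hvb : hperp Q J v b) :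
    B Q v a • J *ᵥ v - B Q (J *ᵥ v) a • v ∈ RR M b hb := by
  have hg := siegO_mem_of_RR (hM v hv)
  set g := siegO Q v (J *ᵥ v) hv (RR_perp (hM v hv)) with hgdef
  have hgb : mt Q g *ᵥ b = b := by
    rw [hgdef, siegO_mulVec, hvb.1, hvb.2]
    simp
  have hga : mt Q g *ᵥ a = a + (B Q v a • J *ᵥ v - B Q (J *ᵥ v) a • v) := by
    rw [hgdef, siegO_mulVec, U.Q_J, hv]
    module
  have h1 : mt Q g *ᵥ a ∈ RR M b hb := RR_conj' hg ha hb hgb rfl
  rw [hga] at h1
  have := (RR M b hb).sub_mem h1 ha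
  rwa [add_sub_cancel_left] at this

end Cfsg.Agent.S5700P
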