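import Cfsg.Agent.Helper28.S5700.Lib
import Cfsg.Agent.Helper2.FieldSubA
import Cfsg.Agent.Helper17.S5700ALLPRAT1
import Cfsg.Agent.Helper17.S5700ALLPRAT2
import Cfsg.Agent.Helper2.S5700ALLPRAT3
import Cfsg.Agent.Helper2.S5700PROPER
import Cfsg.Agent.Helper2.S5700REDUCE1
import Cfsg.Agent.Helper2.S5700REDUCE2
import Cfsg.Agent.Helper2.S5700REDUCE3
import Cfsg.Agent.Helper22.S5700LOCW
import Cfsg.Agent.Helper23.S5700KSIEG
import Cfsg.Agent.Helper6.S5700TYPE0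
import Cfsg.Agent.Helper7.S5700PROP
import Cfsg.Agent.Helper7.S5700TYPE1

set_option autoImplicit false
set_option linter.unusedSectionVars false
set_option linter.unusedVariables false

/-! # S5700: assembly -/

namespace Cfsg.Agent.S5700P

open Matrix Module Cfsg.Agent.Helper28.Sg Cfsg.Agent.Helper28.Spin Cfsg.Agent.Helper12.OrthGen

variable {F : Type*} [Field F] [Fintype F] {ι : Type} [Fintype ι] [DecidableEq ι]
  {Q : QuadraticForm F (ι → F)} {J : Matrix ι ι F} {t p : F}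

/-- an isometry mapping every singular `K`-point into a `K`-point normalises `K` -/
theorem ALLPRAT.inN (U : UData Q J t p) (hQ : (QuadraticMap.polarBilin Q).Nondegenerate)
    (hn : 14 ≤ Fintype.card ι) (g : ↥(Cfsg.isometryGroup F ⇑Q))
    (h : ∀ v, Q v = 0 → InK J (mt Q g *ᵥ v) (mt Q g *ᵥ (J *ᵥ v))) : InN Q J t g := by
  set A : Matrix ι ι F := mt Q g * J * mt Q g⁻¹ with hA
  have hAw : ∀ w, A *ᵥ w = mt Q g *ᵥ (J *ᵥ (mt Q g⁻¹ *ᵥ w)) := by
    intro w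
    rw [hA, ← Matrix.mulVec_mulVec, ← Matrix.mulVec_mulVec]
  have h1 : ∀ w, Q w = 0 → InK J w (A *ᵥ w) := by
    intro w hw
    have hv : Q (mt Q g⁻¹ *ᵥ w) = 0 := by rw [Q_isom]; exact hw
    have := h _ hv
    rw [mt_mulVec_inv] at this
    rw [hAw]; exact this
  obtain ⟨a, b, hab⟩ := ALLPRAT1.const U hQ hn A h1
  have h2 : A = a • (1 : Matrix ι ι F) + b • J := by
    apply ALLPRAT2.eq_of_singular hQ hn
    intro w hw
    rw [hab w hw, Matrix.add_mulVec, Matrix.smul_mulVec, Matrix.smul_mulVec, Matrix.one_mulVec]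
  apply ALLPRAT3.inN U hn g a b
  rw [← h2, hA]
  have e : mt Q g⁻¹ * mt Q g = 1 := by
    rw [← mt_mul, inv_mul_cancel, mt_one]
  rw [Matrix.mul_assoc, e, Matrix.mul_one]

/-- **the main dichotomy**: a subgroup containing the unitary transvections and an element not
normalising `K` contains all Siegel transformations -/
theorem MAIN.S_le (U : UData Q J t p) (hQ : (QuadraticMap.polarBilin Q).Nondegenerate)
    (hn : 14 ≤ Fintype.card ι) (M : Subgroup ↥(Cfsg.isometryGroup F ⇑Q))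
    (hM : ∀ g ∈ S Q, InN Q J t g → g ∈ M) {g : ↥(Cfsg.isometryGroup F ⇑Q)} (hg : g ∈ M)
    (hgN : ¬ InN Q J t g) : S Q ≤ M := by
  have hK : KPt J M := KSIEG.kpt U M hM
  -- a singular `K`-point not mapped to a `K`-point
  obtain ⟨v, hv, hvK⟩ : ∃ v, Q v = 0 ∧ ¬ InK J (mt Q g *ᵥ v) (mt Q g *ᵥ (J *ᵥ v)) := by
    by_contra hcon
    push Not at hcon
    exact hgN (ALLPRAT.inN U hQ hn g hcon)
  have hb : Q (mt Q g *ᵥ v) = 0 := by rw [Q_isom]; exact hv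
  have ha : mt Q g *ᵥ (J *ᵥ v) ∈ RR M (mt Q g *ᵥ v) hb := RR_conj hg (hK v hv) hb
  have hb0 : mt Q g *ᵥ v ≠ 0 := by
    intro h0
    apply hvK
    have hv0 : v = 0 := by
      have := congrArg (fun y => mt Q g⁻¹ *ᵥ y) h0
      simp only [Matrix.mulVec_zero] at this
      rwa [mt_inv_mulVec] at this
    rw [hv0, Matrix.mulVec_zero, Matrix.mulVec_zero, Matrix.mulVec_zero]
    exact InK.zero J _
  obtain ⟨v₀, hv₀, hv₀b, hv₀K, hv₀R⟩ := TYPE0.exists_type0 U hQ hn M hK hb hb0 ha hvK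
  have hgood0 := LOCW.good U hQ hn M hK hb hb0 hv₀ hv₀b hv₀K hv₀R
  have hgood := PROP.good_all U hQ hn M hK hb hb0 hgood0
  have hfull := TYPE1.full U hQ hn M hK hgood
  unfold S
  rw [Subgroup.closure_le]
  rintro s ⟨u, w, hu, huw, rfl⟩
  show siegO Q u w hu huw ∈ M
  by_cases hu0 : u = 0
  · subst hu0
    rw [siegO_zero_left]
    exact M.one_mem
  · exact (RR_le_Rad (hfull u hu hu0 w huw)).2

end Cfsg.Agent.S5700P

namespace Cfsg.Agent.S5700P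

open Matrix Module Cfsg.Agent.Helper28.Sg Cfsg.Agent.Helper28.Spin Cfsg.Agent.Helper12.OrthGen

variable {F : Type*} [Field F] [Fintype F] {n : ℕ}

/-- the reduction of the statement's hypotheses to the model -/
theorem REDUCE.exists_udata (hn : 1 ≤ n) (Q : (Fin n → F) → F)
    (hQ : Cfsg.Geo.IsNondegenerateQuadraticForm Q)
    (K : Subalgebra F (Matrix (Fin n) (Fin n) F)) (hK : Cfsg.Geo.IsFieldSubalgebra 2 K)
    (hac : Cfsg.Geo.IsAdjointClosedFor (QuadraticMap.polar Q) K)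
    (hnsa : ¬ Cfsg.Geo.IsSelfAdjointFor (QuadraticMap.polar Q) K)
    (hsc : ∀ k ∈ K, ∃ c : F, ∀ v : Fin n → F, Q (k *ᵥ v) = c * Q v) :
    ∃ (J : Matrix (Fin n) (Fin n) F) (t p : F),
      UData (Cfsg.Agent.Helper28.NM.ofFun Q hQ) J t p ∧
      ∀ g : GL (Fin n) F, g ∈ Cfsg.Geo.subalgebraNormalizer K ↔
        ((g : Matrix (Fin n) (Fin n) F) * J = J * (g : Matrix (Fin n) (Fin n) F) ∨
          (g : Matrix (Fin n) (Fin n) F) * J =
            (t • (1 : Matrix (Fin n) (Fin n) F) - J) * (g : Matrix (Fin n) (Fin n) F)) := by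
  obtain ⟨ω, p, t, hG⟩ := Cfsg.Agent.Helper2.FSub.exists_gen hn K hK
  have hadj := REDUCE1.adj Q hQ K hG hac hnsa
  have hnorm := REDUCE2.norm hn Q hQ K hG hadj hsc
  refine ⟨ω, t, p, ⟨hG.sq, hG.irred, hadj, hnorm⟩, fun g => REDUCE3.mem_normalizer_iff hn K hG g⟩

/-- **S5700** -/
theorem FINAL.maximal (hn : 13 ≤ n) (heven : Even n) (Q : (Fin n → F) → F)
    (hQ : Cfsg.Geo.IsNondegenerateQuadraticForm Q)
    (K : Subalgebra F (Matrix (Fin n) (Fin n) F)) (hK : Cfsg.Geo.IsFieldSubalgebra 2 K)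
    (hac : Cfsg.Geo.IsAdjointClosedFor (QuadraticMap.polar Q) K)
    (hnsa : ¬ Cfsg.Geo.IsSelfAdjointFor (QuadraticMap.polar Q) K)
    (hsc : ∀ k ∈ K, ∃ c : F, ∀ v : Fin n → F, Q (k *ᵥ v) = c * Q v) :
    Cfsg.Geo.IsMaximalIn (Cfsg.Geo.omegaGL Q)
      (Cfsg.Geo.subalgebraNormalizer K ⊓ Cfsg.Geo.omegaGL Q) := by
  classical
  have hn14 : 14 ≤ n := by
    obtain ⟨k, hk⟩ := heven
    omega
  obtain ⟨J, t, p, hU, hN⟩ := REDUCE.exists_udata (by omega) Q hQ K hK hac hnsa hsc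
  set Q' : QuadraticForm F (Fin n → F) := Cfsg.Agent.Helper28.NM.ofFun Q hQ with hQ'def
  have hQ' : (QuadraticMap.polarBilin Q').Nondegenerate := Cfsg.Agent.Helper28.NM.ofFun_nondeg Q hQ
  have hcard : 14 ≤ Fintype.card (Fin n) := by rw [Fintype.card_fin]; exact hn14
  obtain ⟨fr⟩ := Cfsg.Agent.Helper28.OM.exists_frame3 hQ' (by omega)
  have hΩ : Cfsg.Omega F ⇑Q' = S Q' :=
    Omega_eq_S hQ' fr (Cfsg.Agent.Helper28.OM.hgen_all hQ' (by omega))
  -- membership in the normaliser in terms of `InN`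
  have hInN : ∀ h : ↥(Cfsg.isometryGroup F ⇑Q'),
      ((h : GL (Fin n) F) ∈ Cfsg.Geo.subalgebraNormalizer K ↔ InN Q' J t h) := fun h => hN _
  show Cfsg.Geo.IsMaximalIn (Cfsg.Geo.omegaGL ⇑Q')
    (Cfsg.Geo.subalgebraNormalizer K ⊓ Cfsg.Geo.omegaGL ⇑Q')
  refine ⟨lt_of_le_of_ne inf_le_right ?_, ?_⟩
  · intro heq
    obtain ⟨g, hgS, hgN⟩ := PROPER.exists_not_inN hU hQ' hcard
    have h1 : ((g : ↥(Cfsg.isometryGroup F ⇑Q')) : GL (Fin n) F) ∈
        Cfsg.Geo.subalgebraNormalizer K ⊓ Cfsg.Geo.omegaGL ⇑Q' := by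
      rw [heq]
      exact (Cfsg.Agent.Helper28.NM.mem_omegaGL_iff Q' _).mpr ⟨g, by rw [hΩ]; exact hgS, rfl⟩
    exact hgN ((hInN g).mp h1.1)
  · intro M hHM hMΩ
    by_cases hMH : M ≤ Cfsg.Geo.subalgebraNormalizer K ⊓ Cfsg.Geo.omegaGL ⇑Q'
    · left; exact le_antisymm hMH hHM
    right
    refine le_antisymm hMΩ ?_
    obtain ⟨g, hgM, hgH⟩ := SetLike.not_le_iff_exists.mp hMH
    have hgΩ := hMΩ hgM
    obtain ⟨h, hhΩ, rfl⟩ := (Cfsg.Agent.Helper28.NM.mem_omegaGL_iff Q' g).mp hgΩ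
    have hhN : ¬ InN Q' J t h := fun hc => hgH ⟨(hInN h).mpr hc, hgΩ⟩
    set M' : Subgroup ↥(Cfsg.isometryGroup F ⇑Q') :=
      M.comap (Cfsg.isometryGroup F ⇑Q').subtype with hM'
    have hM'H : ∀ s ∈ S Q', InN Q' J t s → s ∈ M' := by
      intro s hs hsN
      show ((s : ↥(Cfsg.isometryGroup F ⇑Q')) : GL (Fin n) F) ∈ M
      apply hHM
      exact ⟨(hInN s).mpr hsN,
        (Cfsg.Agent.Helper28.NM.mem_omegaGL_iff Q' _).mpr ⟨s, by rw [hΩ]; exact hs, rfl⟩⟩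
    have hkey := MAIN.S_le hU hQ' hcard M' hM'H (g := h) hgM hhN
    intro x hx
    obtain ⟨y, hyΩ, rfl⟩ := (Cfsg.Agent.Helper28.NM.mem_omegaGL_iff Q' x).mp hx
    rw [hΩ] at hyΩ
    exact hkey hyΩ

end Cfsg.Agent.S5700P
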