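import Mathlib
import Cfsg.Prelude.Def_GeometricClasses
import Cfsg.Agent.Helper12.S5683COMM2
import Cfsg.Agent.Helper28.OrthMax3

set_option autoImplicit false
set_option linter.unusedSectionVars false
set_option linter.unusedVariables false

/-! # S5700 (`GU_{n/2}(q) < Ω^±_n(q)`, the unitary overfield subgroups are maximal): definitions

Model: `Q : QuadraticForm F (ι → F)` non-degenerate, `B = B Q` its polar form, `J : Matrix ι ι F` a generator
of the quadratic field `K = F[J]`, `J * J = p • 1 + t • J` (`X² - tX - p` irreducible), whose adjoint is its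
conjugate `t • 1 - J` and with `Q ((a + bJ) x) = N(a + bJ) Q x`, `N(a + bJ) = a² + tab - pb²`.
So `F^ι` is a hermitian space over `K` (`Q x = h(x, x)`, `B = Tr ∘ h`); we never introduce `h`:
`hperp x y` (`h(x,y) = 0`) is `B x y = 0 ∧ B (J x) y = 0`, and `InK J x y` says `y ∈ K x`.
For a singular `v` the unitary transvections with centre `v` are the Siegel transformations
`siegO Q v (c • J v)`; they are `K`-linear elements of `Ω`. -/

namespace Cfsg.Agent.S5700P

open Matrix Cfsg.Agent.Helper28.Sg Cfsg.Agent.Helper28.Spin Cfsg.Agent.Helper12.OrthGen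

variable {F : Type*} [Field F] {ι : Type} [Fintype ι] [DecidableEq ι]

/-- the data of a unitary structure on the quadratic space `(F^ι, Q)` over `K = F[J]` -/
structure UData (Q : QuadraticForm F (ι → F)) (J : Matrix ι ι F) (t p : F) : Prop where
  sq : J * J = p • (1 : Matrix ι ι F) + t • J
  irred : ∀ r : F, r * r - t * r - p ≠ 0
  adj : ∀ u v : ι → F, B Q (J *ᵥ u) v = t * B Q u v - B Q u (J *ᵥ v)
  norm : ∀ (a b : F) (x : ι → F),
    Q (a • x + b • J *ᵥ x) = (a * a + t * a * b - p * b * b) * Q x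

/-- `y ∈ K x` -/
def InK (J : Matrix ι ι F) (x y : ι → F) : Prop := ∃ a b : F, y = a • x + b • J *ᵥ x

/-- `h(x, y) = 0` for the hermitian form -/
def hperp (Q : QuadraticForm F (ι → F)) (J : Matrix ι ι F) (x y : ι → F) : Prop :=
  B Q x y = 0 ∧ B Q (J *ᵥ x) y = 0

/-- `g` normalises `K = F[J]`: it is `K`-linear or `K`-semilinear -/
def InN (Q : QuadraticForm F (ι → F)) (J : Matrix ι ι F) (t : F)
    (g : ↥(Cfsg.isometryGroup F ⇑Q)) : Prop :=
  mt Q g * J = J * mt Q g ∨ mt Q g * J = (t • (1 : Matrix ι ι F) - J) * mt Q g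

/-- the `F`-subspace of the `a` all of whose multiples are parameters of Siegel transformations
`siegO Q b (c • a)` lying in `M` -/
def RR {Q : QuadraticForm F (ι → F)} (M : Subgroup ↥(Cfsg.isometryGroup F ⇑Q)) (b : ι → F)
    (hb : Q b = 0) : Submodule F (ι → F) where
  carrier := {a | ∀ c : F, c • a ∈ Rad M b hb}
  zero_mem' := fun c => by rw [smul_zero]; exact (Rad M b hb).zero_mem
  add_mem' := fun {x y} hx hy c => by rw [smul_add]; exact (Rad M b hb).add_mem (hx c) (hy c)
  smul_mem' := fun d x hx c => by rw [smul_smul]; exact hx (c * d)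

/-- `M` contains all the unitary transvections -/
def KPt {Q : QuadraticForm F (ι → F)} (J : Matrix ι ι F)
    (M : Subgroup ↥(Cfsg.isometryGroup F ⇑Q)) : Prop :=
  ∀ (v : ι → F) (hv : Q v = 0), J *ᵥ v ∈ RR M v hv

/-- all the type `0` lines through `b` are root lines of `M` -/
def Good {Q : QuadraticForm F (ι → F)} (J : Matrix ι ι F)
    (M : Subgroup ↥(Cfsg.isometryGroup F ⇑Q)) (b : ι → F) (hb : Q b = 0) : Prop :=
  ∀ x : ι → F, hperp Q J x b → x ∈ RR M b hb

end Cfsg.Agent.S5700P
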